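import Groth.Agent.SerreDual.ExtShStalk
import Groth.Agent.FlatMor12.HomQCoh
import Groth.Agent.Coherent.Existence.HomAffine
import Groth.Agent.FlatMor12.FittSheaf

/-!
# Sections of sheaf `Ext` on affine schemes
-/

set_option autoImplicit false
set_option linter.style.haveILetI false
set_option backward.isDefEq.respectTransparency.types false

universe u

open CategoryTheory CategoryTheory.Abelian CategoryTheory.Limits AlgebraicGeometry Opposite TopologicalSpace
open Groth.Agent.Coherent Groth.Agent.PicLib Groth.Agent.AmpleLib Groth.Agent.SerreDual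

namespace Groth.Agent.ExtAff22

variable {X : Scheme.{u}} {R : Type u} [CommRing R] {U : X.Opens} (ρ : R →+* Γ(X, U))

/-- Sections on `U`, as modules over `R`. -/
noncomputable def secR : X.Modules ⥤ ModuleCat.{u} R where
  obj M := (ModuleCat.restrictScalars ρ).obj (ModuleCat.of Γ(X, U) Γ(M, U))
  map φ := (ModuleCat.restrictScalars ρ).map (ModuleCat.ofHom (appLin φ U))
  map_id M := rfl
  map_comp φ ψ := rfl

theorem secR_map_apply {M N : X.Modules} (φ : M ⟶ N) (a : Γ(M, U)) :
    ((secR ρ).map φ).hom a = φ.app U a := rfl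

instance additive_secR : (secR ρ).Additive where
  map_add {M N φ ψ} := rfl

/-- A section of the internal Hom, as a map of sections. -/
noncomputable def secHomMap (F G : X.Modules) :
    ((secR ρ).obj (internalHom F G) : Type u) →ₗ[R] ((secR ρ).obj F ⟶ (secR ρ).obj G) where
  toFun φ := (ModuleCat.restrictScalars ρ).map (ModuleCat.ofHom
    (Existence.evLin (show Γ(internalHom F G, U) from φ)))
  map_add' φ ψ := rfl
  map_smul' r φ := ModuleCat.hom_ext (LinearMap.ext fun a => by
    show ev (ρ r • secHom (show Γ(internalHom F G, U) from φ)) U le_rfl a =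
      ρ r • ev (secHom (show Γ(internalHom F G, U) from φ)) U le_rfl a
    rw [ev_smul]
    exact congrArg (· • _) (ConcreteCategory.congr_hom (X.presheaf.map_id (op U)) (ρ r)))

theorem secHomMap_apply (F G : X.Modules) (φ : Γ(internalHom F G, U)) (a : Γ(F, U)) :
    (secHomMap ρ F G φ).hom a = ev (secHom φ) U le_rfl a := rfl

theorem secHomMap_natural {F F' : X.Modules} (g : F ⟶ F') (G : X.Modules)
    (h : ((secR ρ).obj (internalHom F' G) : Type u)) :
    secHomMap ρ F G ((secR ρ).map (precompApp g G) h) = (secR ρ).map g ≫ secHomMap ρ F' G h :=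
  ModuleCat.hom_ext (LinearMap.ext fun a => ev_precompApp g _ U le_rfl a)

theorem bijective_secHomMap (hU : IsAffineOpen U) (hρ : Function.Surjective ρ) (F G : X.Modules)
    [Coh.IsQCoh F] : Function.Bijective (secHomMap ρ F G) := by
  refine ⟨fun φ ψ h => (Existence.secLinEquiv (F := F) (N := G) hU).injective
    (LinearMap.ext fun a => congrArg (fun f => f.hom a) h), fun L => ?_⟩
  let L' : Γ(F, U) →ₗ[Γ(X, U)] Γ(G, U) :=
    { toFun := fun a => L.hom a
      map_add' := fun a b => map_add L.hom a b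
      map_smul' := fun s a => by
        obtain ⟨r, rfl⟩ := hρ s
        exact L.hom.map_smul r a }
  obtain ⟨φ, hφ⟩ := (Existence.secLinEquiv (F := F) (N := G) hU).surjective L'
  exact ⟨φ, ModuleCat.hom_ext (LinearMap.ext fun a => LinearMap.congr_fun hφ a)⟩

/-- Sections on an affine open are exact on quasi-coherent modules. -/
theorem exact_secR (hU : IsAffineOpen U) {S : ShortComplex X.Modules} [Coh.IsQCoh S.X₁]
    [Coh.IsQCoh S.X₂] [Coh.IsQCoh S.X₃] (hS : S.Exact) : (S.map (secR ρ)).Exact := by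
  rw [ShortComplex.moduleCat_exact_iff]
  intro a ha
  obtain ⟨k, hk⟩ := kernel_sections_exact S.g a ha
  haveI : Epi (kernel.lift S.g S.f S.zero) := hS.epi_kernelLift
  haveI := isQCoh_kernel S.g
  obtain ⟨b, hb⟩ := FlatMor12.FittSheaf.surjective_app_of_epi' (kernel.lift S.g S.f S.zero) hU k
  refine ⟨b, ?_⟩
  show S.f.app U b = a
  rw [← hk, ← hb]
  exact congrArg (fun φ : S.X₁ ⟶ S.X₂ => φ.app U b) (kernel.lift_ι S.g S.f S.zero).symm

theorem surjective_secR_map (hU : IsAffineOpen U) {M N : X.Modules} [Coh.IsQCoh M] [Coh.IsQCoh N]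
    (φ : M ⟶ N) [Epi φ] : Function.Surjective ((secR ρ).map φ).hom :=
  FlatMor12.FittSheaf.surjective_app_of_epi' φ hU

theorem mono_secR_map {M N : X.Modules} (φ : M ⟶ N) [Mono φ] : Mono ((secR ρ).map φ) :=
  (ModuleCat.mono_iff_injective _).2 (app_injective_of_mono φ U)

theorem isQCoh_of_isZero {M : X.Modules} (h : IsZero M) : Coh.IsQCoh M := by
  haveI : Coh.IsQCoh (Coh.structureModule X) := isQCoh_structureModule (X := X)
  haveI := isQCoh_cokernel (𝟙 (Coh.structureModule X))
  exact isQCoh_of_iso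
    (((isZero_zero X.Modules).of_iso (cokernel.ofEpi (𝟙 (Coh.structureModule X)))).iso h)

/-- Projectivity of the sections of a finite free module. -/
theorem projective_secR_free (hρ : Function.Bijective ρ) (n : ℕ) :
    CategoryTheory.Projective ((secR ρ).obj (∐ fun _ : Fin n => Coh.structureModule X)) := by
  let O := Coh.structureModule X
  let u : R ≃ₗ[R] ((secR ρ).obj O : Type u) :=
    LinearEquiv.ofBijective
      ({ toFun := fun r => (show Γ(O, U) from ρ r)
         map_add' := fun a b => map_add ρ a b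
         map_smul' := fun a b => map_mul ρ a b } : R →ₗ[R] ((secR ρ).obj O : Type u)) hρ
  haveI : Module.Free R ((secR ρ).obj O : Type u) := Module.Free.of_equiv u
  haveI hO : CategoryTheory.Projective ((secR ρ).obj O) :=
    (IsProjective.iff_projective (R := R) ((secR ρ).obj O : Type u)).1 Module.Projective.of_free
  let π : Fin n → ((∐ fun _ : Fin n => O) ⟶ O) := fun j => Sigma.π (fun _ : Fin n => O) j
  let ι : Fin n → (O ⟶ ∐ fun _ : Fin n => O) := fun j => Sigma.ι (fun _ : Fin n => O) j
  classical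
  have hsum : ∑ j, π j ≫ ι j = 𝟙 _ := by
    refine Sigma.hom_ext _ _ fun i => ?_
    rw [Preadditive.comp_sum, Category.comp_id, Finset.sum_eq_single i
      (fun j _ hj => by rw [Sigma.ι_π_of_ne_assoc _ hj.symm, zero_comp])
      (fun h => absurd (Finset.mem_univ i) h)]
    rw [Sigma.ι_π_eq_id_assoc]
  refine ⟨fun {E N} f e _ => ?_⟩
  refine ⟨∑ j, (secR ρ).map (π j) ≫ Projective.factorThru ((secR ρ).map (ι j) ≫ f) e, ?_⟩
  simp only [Preadditive.sum_comp, Category.assoc, Projective.factorThru_comp]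
  simp only [← Category.assoc, ← Functor.map_comp]
  rw [← Preadditive.sum_comp, ← Functor.map_sum]
  exact (congrArg (fun t => (secR ρ).map t ≫ f) hsum).trans
    ((congrArg (· ≫ f) ((secR ρ).map_id _)).trans (Category.id_comp f))

variable [IsAffine X] [IsLocallyNoetherian X] {G : X.Modules} [Coh.IsQCoh G] (I : InjectiveResolution G)

theorem isQCoh_zero {F : X.Modules} (hF : Coh.IsCoh F) : Coh.IsQCoh ((homCx F I).homology 0) := by
  haveI := hF.1
  haveI := FlatMor12.isQCoh_internalHom_of_isFP (N := G) (isFP_of_isCoh hF)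
  haveI := isIso_zeroMap I F
  exact isQCoh_of_iso (asIso (zeroMap I F))

variable (hρ : Function.Bijective ρ) (hU : IsAffineOpen U)

/-- In degree zero, the sections are the Hom of sections. -/
noncomputable def zeroSecEquiv {F : X.Modules} (hF : Coh.IsCoh F) :
    ((secR ρ).obj ((homCx F I).homology 0) : Type u) ≃ₗ[R] ((secR ρ).obj F ⟶ (secR ρ).obj G) :=
  haveI := isIso_zeroMap I F
  haveI := hF.1
  ((secR ρ).mapIso (asIso (zeroMap I F))).symm.toLinearEquiv.trans
    (LinearEquiv.ofBijective _ (bijective_secHomMap ρ hU hρ.2 F G))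

omit [Coh.IsQCoh G] in
theorem zeroSecEquiv_natural {F F' : X.Modules} (g : F ⟶ F') (hF : Coh.IsCoh F) (hF' : Coh.IsCoh F')
    (z : ((secR ρ).obj ((homCx F' I).homology 0) : Type u)) :
    zeroSecEquiv ρ I hρ hU hF ((secR ρ).map (HomologicalComplex.homologyMap (homCxMap g I) 0) z) =
      (secR ρ).map g ≫ zeroSecEquiv ρ I hρ hU hF' z := by
  haveI := isIso_zeroMap I F
  haveI := isIso_zeroMap I F'
  obtain ⟨w, rfl⟩ := ((secR ρ).mapIso (asIso (zeroMap I F'))).toLinearEquiv.surjective z
  have h1 : (secR ρ).map (HomologicalComplex.homologyMap (homCxMap g I) 0) ((secR ρ).map (zeroMap I F') w) =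
      (secR ρ).map (zeroMap I F) ((secR ρ).map (precompApp g G) w) := by
    rw [← ConcreteCategory.comp_apply, ← ConcreteCategory.comp_apply, ← Functor.map_comp, ← Functor.map_comp,
      zeroMap_natural]
  show secHomMap ρ F G (((secR ρ).mapIso (asIso (zeroMap I F))).toLinearEquiv.symm _) =
    (secR ρ).map g ≫ secHomMap ρ F' G (((secR ρ).mapIso (asIso (zeroMap I F'))).toLinearEquiv.symm _)
  rw [LinearEquiv.symm_apply_apply, ← secHomMap_natural]
  refine congrArg _ (((secR ρ).mapIso (asIso (zeroMap I F))).toLinearEquiv.symm_apply_eq.2 ?_)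
  exact h1

include hρ hU in
/-- On an affine Noetherian scheme the sheaf `Ext` of a coherent module into a quasi-coherent one is
quasi-coherent and its sections are the `Ext` of the sections. -/
theorem qcoh_and_sections : ∀ (i : ℕ) {F : X.Modules}, Coh.IsCoh F →
    Coh.IsQCoh ((homCx F I).homology i) ∧
      Nonempty (((secR ρ).obj ((homCx F I).homology i) : Type u) ≃ₗ[R]
        Ext ((secR ρ).obj F) ((secR ρ).obj G) i)
  | 0, _, hF => ⟨isQCoh_zero I hF, ⟨(zeroSecEquiv ρ I hρ hU hF).trans Ext.linearEquiv₀.symm⟩⟩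
  | i + 1, F, hF => by
    obtain ⟨n, p, hp, hK⟩ := exists_step hF
    let E := ∐ fun _ : Fin n => Coh.structureModule X
    let C := ShortComplex.mk (kernel.ι p) p (kernel.condition p)
    have hC : C.ShortExact :=
      { exact := ShortComplex.exact_of_f_is_kernel _ (kernelIsKernel p), mono_f := inferInstance, epi_g := hp }
    have hE : FlatMod.IsFinLocFree E :=
      DCat.PerfTensor.isFinLocFree_sigma _ fun _ => CohBC.isFinLocFree_structureModule X
    have hEc : Coh.IsCoh E := CohBC.isCoh_of_isFinLocFree hE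
    haveI : Coh.IsQCoh C.X₁ := hK.1
    haveI : Coh.IsQCoh C.X₂ := hEc.1
    haveI : Coh.IsQCoh C.X₃ := hF.1
    haveI hPE : CategoryTheory.Projective ((secR ρ).obj E) := projective_secR_free ρ hρ n
    have hSC : (C.map (secR ρ)).ShortExact :=
      { exact := exact_secR ρ hU hC.exact
        mono_f := mono_secR_map ρ (kernel.ι p)
        epi_g := (ModuleCat.epi_iff_surjective _).2 (surjective_secR_map ρ hU p) }
    haveI hE0 : ∀ j, Subsingleton (Ext (C.map (secR ρ)).X₂ ((secR ρ).obj G) (j + 1)) := fun j =>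
      subsingleton_of_forall_eq 0 (Ext.eq_zero_of_projective (P := (secR ρ).obj E))
    have hH := shortExact_homCxShort hC I
    have hz : ∀ j, IsZero (((homCx E I).homology (j + 1))) := fun j =>
      isZero_homology_homCx_of_locFree hE I j
    haveI : Epi (hH.δ i (i + 1) rfl) := hH.epi_δ i (i + 1) rfl (hz i)
    obtain ⟨hqK, hK'⟩ := qcoh_and_sections i hK
    haveI : Coh.IsQCoh ((homCxShort C I).X₃.homology i) := hqK
    haveI : Coh.IsQCoh ((homCxShort C I).X₂.homology i) := by
      cases i with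
      | zero => exact isQCoh_zero I hEc
      | succ j => exact isQCoh_of_isZero (hz j)
    have hex₃ := hH.homology_exact₃ i (i + 1) rfl
    haveI : Epi (ShortComplex.mk _ _ (hH.comp_δ i (i + 1) rfl)).g := ‹Epi (hH.δ i (i + 1) rfl)›
    haveI hqF : Coh.IsQCoh ((homCxShort C I).X₁.homology (i + 1)) := by
      haveI := isQCoh_cokernel (HomologicalComplex.homologyMap (homCxShort C I).g i)
      exact isQCoh_of_iso (M := cokernel (HomologicalComplex.homologyMap (homCxShort C I).g i))
        ((cokernelIsCokernel _).coconePointUniqueUpToIso hex₃.gIsCokernel)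
    refine ⟨hqF, ?_⟩
    let d : ((secR ρ).obj ((homCx (kernel p) I).homology i) : Type u) →ₗ[R]
        ((secR ρ).obj ((homCx F I).homology (i + 1)) : Type u) := ((secR ρ).map (hH.δ i (i + 1) rfl)).hom
    have hd : Function.Surjective d := surjective_secR_map ρ hU (hH.δ i (i + 1) rfl)
    let c : Ext ((secR ρ).obj (kernel p)) ((secR ρ).obj G) i →ₗ[R]
        Ext ((secR ρ).obj F) ((secR ρ).obj G) (i + 1) :=
      hSC.extClass.precompOfLinear R _ (Nat.add_comm 1 i)
    have hc : Function.Surjective c := fun y =>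
      Ext.contravariant_sequence_exact₃ hSC _ y (Subsingleton.elim _ _) (Nat.add_comm 1 i)
    suffices hs : ∃ e : ((secR ρ).obj ((homCx (kernel p) I).homology i) : Type u) ≃ₗ[R]
        Ext ((secR ρ).obj (kernel p)) ((secR ρ).obj G) i, (LinearMap.ker d).map e.toLinearMap = LinearMap.ker c by
      obtain ⟨e, he⟩ := hs
      exact ⟨((d.quotKerEquivOfSurjective hd).symm.trans (Submodule.Quotient.equiv _ _ e he)).trans
        (c.quotKerEquivOfSurjective hc)⟩
    have hexd : LinearMap.ker d = LinearMap.range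
        ((secR ρ).map (HomologicalComplex.homologyMap (homCxShort C I).g i)).hom :=
      (exact_secR ρ hU hex₃).moduleCat_range_eq_ker.symm
    have hexc : ∀ z, c z = 0 ↔ ∃ y, (Ext.mk₀ ((secR ρ).map (kernel.ι p))).comp y (zero_add i) = z := fun z =>
      ⟨fun h => Ext.contravariant_sequence_exact₁ hSC _ z (Nat.add_comm 1 i) h, by
        rintro ⟨y, rfl⟩
        show hSC.extClass.comp ((Ext.mk₀ ((secR ρ).map (kernel.ι p))).comp y (zero_add i)) (Nat.add_comm 1 i) = 0
        refine (Ext.comp_assoc_of_second_deg_zero hSC.extClass (Ext.mk₀ (C.map (secR ρ)).f) y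
          (Nat.add_comm 1 i)).symm.trans ?_
        rw [hSC.extClass_comp, Ext.zero_comp]⟩
    cases i with
    | zero =>
      refine ⟨(zeroSecEquiv ρ I hρ hU hK).trans Ext.linearEquiv₀.symm, ?_⟩
      ext z
      rw [LinearMap.mem_ker, hexc, hexd]
      constructor
      · rintro ⟨_, ⟨w, rfl⟩, rfl⟩
        refine ⟨Ext.mk₀ (zeroSecEquiv ρ I hρ hU hEc w), ?_⟩
        rw [Ext.mk₀_comp_mk₀]
        exact (congrArg Ext.mk₀ (zeroSecEquiv_natural ρ I hρ hU (kernel.ι p) hK hEc w)).symm
      · rintro ⟨y, rfl⟩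
        obtain ⟨f, rfl⟩ := (Ext.mk₀_bijective _ _).2 y
        obtain ⟨w, rfl⟩ := (zeroSecEquiv ρ I hρ hU hEc).surjective f
        refine ⟨_, ⟨w, rfl⟩, ?_⟩
        rw [Ext.mk₀_comp_mk₀]
        exact congrArg Ext.mk₀ (zeroSecEquiv_natural ρ I hρ hU (kernel.ι p) hK hEc w)
    | succ i =>
      obtain ⟨e⟩ := hK'
      refine ⟨e, ?_⟩
      have h1 : LinearMap.ker d = ⊥ := by
        refine hexd.trans (LinearMap.range_eq_bot.2 ?_)
        exact (congrArg (fun t => ((secR ρ).map t).hom) ((hz i).eq_of_src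
          (HomologicalComplex.homologyMap (homCxShort C I).g (i + 1)) 0)).trans
          (congrArg ModuleCat.Hom.hom ((secR ρ).map_zero _ _))
      rw [h1, Submodule.map_bot, eq_comm, LinearMap.ker_eq_bot']
      intro z hz0
      obtain ⟨y, rfl⟩ := (hexc z).1 hz0
      exact (congrArg (fun t => (Ext.mk₀ ((secR ρ).map (kernel.ι p))).comp t (zero_add (i + 1))) ((hE0 i).elim y 0)).trans
        (Ext.comp_zero ..)

/-- `Ext` is invariant under isomorphisms in both variables. -/
noncomputable def extCongr {A : Type u} [CommRing A] {M M' N N' : ModuleCat.{u} A} (eM : M ≅ M') (eN : N ≅ N')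
    (i : ℕ) : Ext M N i ≃ₗ[A] Ext M' N' i :=
  LinearEquiv.ofBijective
    (((Ext.mk₀ eN.hom).postcompOfLinear A M' (add_zero i)) ∘ₗ
      ((Ext.mk₀ eM.inv).precompOfLinear A N (zero_add i))) <| by
    refine Function.bijective_iff_has_inverse.2
      ⟨fun y => (Ext.mk₀ eM.hom).comp (y.comp (Ext.mk₀ eN.inv) (add_zero i)) (zero_add i), fun x => ?_, fun y => ?_⟩
    · show (Ext.mk₀ eM.hom).comp ((((Ext.mk₀ eM.inv).comp x (zero_add i)).comp (Ext.mk₀ eN.hom) (add_zero i)).comp
        (Ext.mk₀ eN.inv) (add_zero i)) (zero_add i) = x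
      simp
    · show ((Ext.mk₀ eM.inv).comp ((Ext.mk₀ eM.hom).comp (y.comp (Ext.mk₀ eN.inv) (add_zero i)) (zero_add i))
        (zero_add i)).comp (Ext.mk₀ eN.hom) (add_zero i) = y
      simp

end Groth.Agent.ExtAff22
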