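import Groth.Agent.HTop16.SiteStalkSpace
import Groth.Agent.ExtAff22.Sections
import Groth.Agent.QCohLoc.Basic
import Mathlib.Algebra.Homology.DerivedCategory.Ext.MapBijective
import Mathlib.Algebra.Category.ModuleCat.ChangeOfRings

/-!
# Transport of `Ext` along semilinear isomorphisms, and stalks on the site of opens
-/

set_option autoImplicit false
set_option linter.style.haveILetI false
set_option backward.isDefEq.respectTransparency false
set_option backward.isDefEq.respectTransparency.types false

universe u

open CategoryTheory CategoryTheory.Abelian CategoryTheory.Limits AlgebraicGeometry Opposite TopologicalSpace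

namespace Groth.Agent.ExtAff22

/-- `Ext` transported along a ring isomorphism and semilinear isomorphisms. -/
theorem nonempty_ext_transport {R S : Type u} [CommRing R] [CommRing S] (φ : R ≃+* S)
    {N M : ModuleCat.{u} S} {N' M' : ModuleCat.{u} R}
    (eN : N' ≃+ N) (hN : ∀ (r : R) (v : N'), eN (r • v) = φ r • eN v)
    (eM : M' ≃+ M) (hM : ∀ (r : R) (v : M'), eM (r • v) = φ r • eM v)
    {E : Type u} [AddCommGroup E] [Module R E] (i : ℕ) (ψ : E ≃+ Ext N M i)
    (hψ : ∀ (r : R) (v : E), ψ (r • v) = φ r • ψ v) :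
    Nonempty (E ≃ₗ[R] Ext N' M' i) := by
  let F := ModuleCat.restrictScalars.{u} φ.toRingHom
  haveI : F.IsEquivalence := ModuleCat.restrictScalars_isEquivalence_of_ringEquiv φ
  haveI : PreservesFiniteLimits F := inferInstance
  haveI : PreservesFiniteColimits F := inferInstance
  have hb := F.mapExt_bijective_of_preservesProjectiveObjects N M i
  have hs : ∀ (r : R) (x : Ext N M i), (φ r • x).mapExactFunctor F = r • x.mapExactFunctor F := by
    intro r x
    rw [Ext.smul_eq_comp_mk₀, Ext.smul_eq_comp_mk₀, Ext.mapExactFunctor_comp, Ext.mapExactFunctor_mk₀]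
    have hmap : F.map (φ r • 𝟙 M) = r • 𝟙 (F.obj M) :=
      ModuleCat.hom_ext (LinearMap.ext fun v => rfl)
    rw [hmap]
  let aN : F.obj N ≅ N' := (show N' ≃ₗ[R] (F.obj N : Type u) from { eN with map_smul' := hN }).toModuleIso.symm
  let aM : F.obj M ≅ M' := (show M' ≃ₗ[R] (F.obj M : Type u) from { eM with map_smul' := hM }).toModuleIso.symm
  let ψ' : E ≃ₗ[R] Ext (F.obj N) (F.obj M) i :=
    { ψ.trans (AddEquiv.ofBijective _ hb) with
      map_smul' := fun r v => by
        show (ψ (r • v)).mapExactFunctor F = r • (ψ v).mapExactFunctor F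
        rw [hψ, hs] }
  exact ⟨ψ'.trans (extCongr aN aM i)⟩

variable {X : Scheme.{u}} (x : X)

/-- The stalk of a module on the site of opens, against the stalk on the space. -/
noncomputable def siteStalkMap (M : X.Modules) :
    ModSite.stalkAb (Opens.pointGrothendieckTopology x) (O := X.sheaf) M ⟶ M.presheaf.stalk x :=
  (Opens.pointGrothendieckTopology x).presheafFiberDesc
    (fun U h => TopCat.Presheaf.germ M.presheaf U x h.down.down)
    (fun U V g h => TopCat.Presheaf.germ_res M.presheaf g x h.down.down)

theorem siteStalkMap_germ (M : X.Modules) (U : X.Opens) (h : x ∈ U) (s : Γ(M, U)) :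
    (siteStalkMap x M).hom (ModSite.germ (Opens.pointGrothendieckTopology x) (O := X.sheaf) M U ⟨⟨h⟩⟩ s) =
      (TopCat.Presheaf.germ M.presheaf U x h).hom s := by
  show ((Opens.pointGrothendieckTopology x).toPresheafFiber U ⟨⟨h⟩⟩
    (ModSite.toAb (O := X.sheaf) M).obj ≫ siteStalkMap x M).hom s = _
  simp only [siteStalkMap, GrothendieckTopology.Point.toPresheafFiber_presheafFiberDesc]
  rfl

theorem bijective_siteStalkMap (M : X.Modules) : Function.Bijective (siteStalkMap x M).hom := by
  constructor
  · intro a b hab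
    obtain ⟨U, hU, a, rfl⟩ := HTop16.SiteStalk.exists_germ (O := X.sheaf) (Opens.pointGrothendieckTopology x) M a
    obtain ⟨V, hV, b, rfl⟩ := HTop16.SiteStalk.exists_germ (O := X.sheaf) (Opens.pointGrothendieckTopology x) M b
    obtain ⟨W, hW, iU, iV, he⟩ := TopCat.Presheaf.germ_eq M.presheaf x hU.down.down hV.down.down a b
      ((siteStalkMap_germ x M U hU.down.down a).symm.trans (hab.trans (siteStalkMap_germ x M V hV.down.down b)))
    have h1 := HTop16.SiteStalk.germ_res (O := X.sheaf) (Opens.pointGrothendieckTopology x) M iU ⟨⟨hW⟩⟩ a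
    have h2 := HTop16.SiteStalk.germ_res (O := X.sheaf) (Opens.pointGrothendieckTopology x) M iV ⟨⟨hW⟩⟩ b
    exact h1.symm.trans ((congrArg (ModSite.germ (Opens.pointGrothendieckTopology x) (O := X.sheaf) M W ⟨⟨hW⟩⟩) he).trans h2)
  · intro a
    obtain ⟨U, hU, r, rfl⟩ := TopCat.Presheaf.exists_germ_eq M.presheaf (x := x) a
    exact ⟨_, siteStalkMap_germ x M U hU r⟩

/-- The stalk ring on the site of opens. -/
noncomputable def siteRingEquiv :
    ModSite.stalkRing (Opens.pointGrothendieckTopology x) X.sheaf ≃+* X.presheaf.stalk x :=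
  RingEquiv.ofBijective (HTop16.SiteStalk.spaceStalkMap X.sheaf x).hom
    (HTop16.SiteStalk.bijective_spaceStalkMap X.sheaf x)

/-- The stalk module on the site of opens. -/
noncomputable def siteModEquiv (M : X.Modules) :
    ModSite.stalkAb (Opens.pointGrothendieckTopology x) (O := X.sheaf) M ≃+ M.presheaf.stalk x :=
  AddEquiv.ofBijective (siteStalkMap x M).hom (bijective_siteStalkMap x M)

theorem siteModEquiv_smul (M : X.Modules) (r : ModSite.stalkRing (Opens.pointGrothendieckTopology x) X.sheaf)
    (m : ModSite.stalkAb (Opens.pointGrothendieckTopology x) (O := X.sheaf) M) :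
    siteModEquiv x M (r • m) = siteRingEquiv x r • siteModEquiv x M m := by
  obtain ⟨U, hU, a, s, rfl, rfl⟩ :=
    HTop16.SiteStalk.exists_germ_pair (O := X.sheaf) (Opens.pointGrothendieckTopology x) M r m
  rw [← ModSite.germ_smul]
  refine (siteStalkMap_germ x M U hU.down.down _).trans ?_
  refine (QCohLoc.germ_smul' M hU.down.down a s).trans ?_
  exact (congrArg₂ (fun (c : X.presheaf.stalk x) (d : M.presheaf.stalk x) => c • d) (HTop16.SiteStalk.spaceStalkMap_germ X.sheaf x U hU.down.down a)
    (siteStalkMap_germ x M U hU.down.down s)).symm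

end Groth.Agent.ExtAff22
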